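import Mathlib
import Groth.Agent.Grass54.DetRing
import Groth.Agent.EGA4Alg4.IntegralDim

/-! # Dimension of the generic determinantal ring over an arbitrary field -/

set_option autoImplicit false
universe u
open MvPolynomial W4bk4grassmannian

namespace DetDim31

theorem dim_infinite (F : Type u) [Field F] [Infinite F] {n m : ℕ} (hn : 0 < n) (hm : 0 < m) {s : ℕ}
    (hsn : s ≤ n) (hsm : s ≤ m) :
    ringKrullDim (MvPolynomial (Fin m × Fin n) F ⧸ CAlgX.minorIdeal (genMatrix F m n) (s + 1)) =
      ((s * (n + m - s) : ℕ) : WithBot ℕ∞) := by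
  rw [← Groth.Agent.Grass54.cellIdeal_wDet F hn hm hsn hsm, ← Groth.Agent.Grass54.codeg_wDet hsn hsm]
  exact Groth.Agent.Grass54.ringKrullDim_cell F hn (by omega) _

theorem map_minorIdeal {R S : Type u} [CommRing R] [CommRing S] (f : R →+* S) {m n : Type} [Fintype m] [Fintype n]
    (A : Matrix m n R) (r : ℕ) :
    (CAlgX.minorIdeal A r).map f = CAlgX.minorIdeal (A.map f) r := by
  rw [CAlgX.minorIdeal, CAlgX.minorIdeal, Ideal.map_span, ← Set.range_comp]
  congr 1
  refine congrArg Set.range (funext fun fg => ?_)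
  simp [Function.comp, RingHom.map_det, Matrix.submatrix_map]

variable {σ : Type} (k L : Type u) [Field k] [Field L] [Algebra k L] [Algebra.IsAlgebraic k L]

attribute [local instance] MvPolynomial.algebraMvPolynomial

theorem dim_quotient_map (I : Ideal (MvPolynomial σ k)) :
    ringKrullDim (MvPolynomial σ L ⧸ I.map (algebraMap (MvPolynomial σ k) (MvPolynomial σ L))) =
      ringKrullDim (MvPolynomial σ k ⧸ I) := by
  classical
  set J := I.map (algebraMap (MvPolynomial σ k) (MvPolynomial σ L))
  have : Algebra.IsIntegral (MvPolynomial σ k) (MvPolynomial σ L) :=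
    ⟨fun f => MvPolynomial.isIntegral_iff_isIntegral_coeff.mpr fun d =>
      (Algebra.IsAlgebraic.isAlgebraic (f.coeff d)).isIntegral⟩
  obtain ⟨π, hπ⟩ := (Algebra.linearMap k L).exists_leftInverse_of_injective
    (LinearMap.ker_eq_bot.mpr (algebraMap k L).injective)
  let red : MvPolynomial σ L → MvPolynomial σ k := fun h => ∑ d ∈ h.support, monomial d (π (h.coeff d))
  have hred : ∀ h d, (red h).coeff d = π (h.coeff d) := by
    intro h d
    simp only [red, coeff_sum, coeff_monomial, Finset.sum_ite_eq']
    split_ifs with hd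
    · rfl
    · rw [notMem_support_iff.mp hd, map_zero]
  have hmem : ∀ h ∈ J, red h ∈ I := by
    intro h hh
    suffices H : ∀ a, red (a * h) ∈ I by simpa using H 1
    have hh' : h ∈ Submodule.span (MvPolynomial σ L)
      (map (algebraMap k L) '' (I : Set (MvPolynomial σ k))) := hh
    clear hh
    induction hh' using Submodule.span_induction with
    | mem z hz =>
      obtain ⟨g, hg, rfl⟩ := hz
      intro a
      have : red (a * map (algebraMap k L) g) = red a * g := by
        ext d
        simp only [hred, coeff_mul, map_sum, coeff_map]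
        refine Finset.sum_congr rfl fun x _ => ?_
        rw [mul_comm, ← Algebra.smul_def, map_smul, smul_eq_mul, mul_comm]
      rw [this]
      exact Ideal.mul_mem_left _ _ hg
    | zero => intro a; simp [red]
    | add u v _ _ hu hv =>
      intro a
      have : red (a * (u + v)) = red (a * u) + red (a * v) := by
        ext d; simp only [hred, coeff_add, mul_add, map_add]
      rw [this]
      exact add_mem (hu a) (hv a)
    | smul c u _ hu => intro a; rw [smul_eq_mul, ← mul_assoc]; exact hu _
  have hcomap : J.comap (algebraMap (MvPolynomial σ k) (MvPolynomial σ L)) = I := by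
    refine le_antisymm (fun f hf => ?_) Ideal.le_comap_map
    have : red (map (algebraMap k L) f) = f := by
      ext d; rw [hred, coeff_map]; exact LinearMap.congr_fun hπ _
    rw [← this]
    exact hmem _ hf
  let φ : MvPolynomial σ k ⧸ I →+* MvPolynomial σ L ⧸ J :=
    Ideal.quotientMap J (algebraMap (MvPolynomial σ k) (MvPolynomial σ L)) Ideal.le_comap_map
  let := φ.toAlgebra
  have : Algebra.IsIntegral (MvPolynomial σ k ⧸ I) (MvPolynomial σ L ⧸ J) := by
    refine ⟨fun x => ?_⟩
    obtain ⟨y, rfl⟩ := Ideal.Quotient.mk_surjective x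
    obtain ⟨p, hp, hy⟩ := Algebra.IsIntegral.isIntegral (R := MvPolynomial σ k) y
    refine ⟨p.map (Ideal.Quotient.mk I), hp.map _, ?_⟩
    rw [Polynomial.eval₂_map]
    show Polynomial.eval₂ (φ.comp (Ideal.Quotient.mk I)) (Ideal.Quotient.mk J y) p = 0
    rw [show φ.comp (Ideal.Quotient.mk I) = (Ideal.Quotient.mk J).comp
      (algebraMap (MvPolynomial σ k) (MvPolynomial σ L)) from RingHom.ext fun _ => rfl,
      ← Polynomial.hom_eval₂, hy, map_zero]
  exact Groth.Agent.EGA4Alg4.ringKrullDim_eq_of_integral (MvPolynomial σ k ⧸ I) (MvPolynomial σ L ⧸ J)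
    (Ideal.quotientMap_injective' hcomap.le)

theorem dim_eq (k : Type u) [Field k] (n m r : ℕ) (hr : r ≤ min n m) :
    ringKrullDim (MvPolynomial (Fin n × Fin m) k ⧸ CAlgX.minorIdeal (Matrix.of fun (i : Fin n) (j : Fin m) =>
      (MvPolynomial.X (i, j) : MvPolynomial (Fin n × Fin m) k)) (r + 1)) =
      ((r * (m + n - r) : ℕ) : WithBot ℕ∞) := by
  rcases Nat.eq_zero_or_pos (min n m) with h0 | hpos
  · obtain rfl : r = 0 := by omega
    have : IsEmpty (Fin n × Fin m) := by
      rcases Nat.min_eq_zero_iff.mp h0 with rfl | rfl <;> infer_instance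
    have hI : CAlgX.minorIdeal (Matrix.of fun (i : Fin n) (j : Fin m) =>
        (MvPolynomial.X (i, j) : MvPolynomial (Fin n × Fin m) k)) (0 + 1) = ⊥ := by
      rw [CAlgX.minorIdeal, Ideal.span_eq_bot]
      rintro _ ⟨⟨f, g⟩, rfl⟩
      exact isEmptyElim ((f 0, g 0) : Fin n × Fin m)
    rw [hI, ringKrullDim_eq_of_ringEquiv (RingEquiv.quotientBot _),
      MvPolynomial.ringKrullDim_of_isNoetherianRing, ringKrullDim_eq_zero_of_field, zero_add, zero_mul,
      Nat.card_of_isEmpty]
  · let L := AlgebraicClosure k
    have hmap : (CAlgX.minorIdeal (Matrix.of fun (i : Fin n) (j : Fin m) =>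
        (MvPolynomial.X (i, j) : MvPolynomial (Fin n × Fin m) k)) (r + 1)).map
          (algebraMap (MvPolynomial (Fin n × Fin m) k) (MvPolynomial (Fin n × Fin m) L)) =
        CAlgX.minorIdeal (genMatrix L n m) (r + 1) := by
      rw [map_minorIdeal]
      congr 1
      ext i j
      simp only [Matrix.map_apply, Matrix.of_apply, genMatrix]
      exact congrArg _ (MvPolynomial.map_X _ _)
    rw [← dim_quotient_map k L, hmap]
    exact dim_infinite L (by omega) (by omega) (by omega) (by omega)

end DetDim31
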